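import Groth.Agent.Comod.FundThm
import Groth.Agent.Comod.Reynolds
import Mathlib.RingTheory.Ideal.Cotangent
import Mathlib.RingTheory.Flat.Basic

/-!
The cotangent module of a free orbit as a Hopf module, and invariant generators near the orbit.
-/
set_option autoImplicit false
universe u
open TensorProduct Coalgebra
noncomputable section

namespace Groth.Agent.OrbitCot

variable (k : Type u) [Field k] (A : Type u) [CommRing A] [HopfAlgebra k A]
variable {R : Type u} [CommRing R] [Algebra k R] [HopfRep.Comod k A R] [GLin.IsCoactAlg k A R]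

local notation "ρ" => GLin.coactAlgHom k A R

/-- the extension of an ideal to `R ⊗ A` -/
abbrev ext (I : Ideal R) : Ideal (R ⊗[k] A) :=
  I.map (Algebra.TensorProduct.includeLeft : R →ₐ[k] R ⊗[k] A)

/-- an ideal stable under the coaction -/
def Stable (I : Ideal R) : Prop := ∀ y ∈ I, ρ y ∈ ext k A I

theorem ext_eq_range (I : Ideal R) (t : R ⊗[k] A) :
    t ∈ ext k A I ↔ t ∈ LinearMap.range ((I.restrictScalars k).subtype.rTensor A) := by
  constructor
  · intro h
    induction h using Submodule.span_induction with
    | mem t ht =>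
      obtain ⟨y, hy, rfl⟩ := ht
      exact ⟨(⟨y, hy⟩ : I.restrictScalars k) ⊗ₜ 1, rfl⟩
    | zero => exact zero_mem _
    | add a b _ _ ha hb => exact add_mem ha hb
    | smul s t hmem ht =>
      clear hmem
      obtain ⟨t, rfl⟩ := ht
      induction t using TensorProduct.induction_on with
      | zero => simp
      | add a b ha hb => rw [map_add, smul_add]; exact add_mem ha hb
      | tmul y a =>
        induction s using TensorProduct.induction_on with
        | zero => simp
        | add c d hc hd => rw [add_smul]; exact add_mem hc hd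
        | tmul c b =>
          exact ⟨(⟨c * y, I.mul_mem_left c y.2⟩ : I.restrictScalars k) ⊗ₜ (b * a), by
            simp [Algebra.TensorProduct.tmul_mul_tmul]⟩
  · rintro ⟨t, rfl⟩
    induction t using TensorProduct.induction_on with
    | zero => simp
    | add a b ha hb => rw [map_add]; exact add_mem ha hb
    | tmul y a =>
      rw [LinearMap.rTensor_tmul, show ((I.restrictScalars k).subtype y) ⊗ₜ[k] a =
        ((1 : R) ⊗ₜ a) * ((y : R) ⊗ₜ[k] (1 : A)) by simp [Algebra.TensorProduct.tmul_mul_tmul]]
      exact Ideal.mul_mem_left _ _ (Ideal.mem_map_of_mem _ y.2)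

theorem mem_ext_of_ker {W : Type u} [AddCommGroup W] [Module k W] (I : Ideal R) (π : R →ₗ[k] W)
    (hπ : Function.Surjective π) (hker : LinearMap.ker π = I.restrictScalars k) (t : R ⊗[k] A)
    (ht : π.rTensor A t = 0) : t ∈ ext k A I := by
  rw [ext_eq_range]
  exact (rTensor_exact A (LinearMap.exact_iff.2 (by rw [hker, Submodule.range_subtype])) hπ t).1 ht

variable {k A}

theorem cR_mem {I : Ideal R} (l : A →ₗ[k] k) {t : R ⊗[k] A} (ht : t ∈ ext k A I) :
    Comod.cR l t ∈ I := by
  rw [ext_eq_range] at ht
  obtain ⟨t, rfl⟩ := ht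
  rw [Comod.cR_rTensor]
  exact (Comod.cR l t).2

theorem cR_mul_left (l : A →ₗ[k] k) (t : R ⊗[k] A) (y : R) :
    Comod.cR l (t * (y ⊗ₜ[k] (1 : A))) = Comod.cR l t * y := by
  induction t using TensorProduct.induction_on with
  | zero => simp
  | tmul a b => simp [Algebra.TensorProduct.tmul_mul_tmul]
  | add a b ha hb => simp [add_mul, ha, hb]

theorem reynolds_mem_of_stable (r : Comod.Integral k A) {I : Ideal R} (hI : Stable k A I) {y : R}
    (hy : y ∈ I) : Comod.reynolds R r y ∈ I :=
  cR_mem r.toFun (hI y hy)

/-- `y ⊗ 1` in terms of the coaction of the components of `y`. -/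
theorem tmul_one_mem {I : Ideal R} (hI : Stable k A I) {y : R} (hy : y ∈ I) :
    y ⊗ₜ[k] (1 : A) ∈ Ideal.span (ρ '' (I : Set R)) := by
  let T : R ⊗[k] A →ₗ[k] R ⊗[k] A := TensorProduct.lift
    ((LinearMap.mul k (R ⊗[k] A)).compl₁₂ (GLin.coactAlgHom k A R).toLinearMap
      (TensorProduct.mk k R A 1 ∘ₗ HopfAlgebra.antipode k))
  let K : (R ⊗[k] A) ⊗[k] A →ₗ[k] R ⊗[k] A := TensorProduct.lift
    ((LinearMap.mul k (R ⊗[k] A)).compl₁₂ LinearMap.id (TensorProduct.mk k R A 1 ∘ₗ HopfAlgebra.antipode k))
  have hTK : ∀ t, T t = K ((GLin.coactAlgHom k A R).toLinearMap.rTensor A t) := fun t => by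
    induction t using TensorProduct.induction_on with
    | zero => simp
    | tmul a b => simp [T, K]
    | add a b ha hb => simp only [map_add, ha, hb]
  have hK : ∀ t : R ⊗[k] A, K ((TensorProduct.assoc k R A A).symm (comul.lTensor R t)) =
      (TensorProduct.rid k R (counit.lTensor R t)) ⊗ₜ[k] (1 : A) := fun t => by
    induction t using TensorProduct.induction_on with
    | zero => simp
    | add a b ha hb => simp only [map_add, ha, hb, TensorProduct.add_tmul]
    | tmul x b =>
      rw [LinearMap.lTensor_tmul, LinearMap.lTensor_tmul, TensorProduct.rid_tmul, TensorProduct.smul_tmul,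
        ← Algebra.algebraMap_eq_smul_one, ← HopfAlgebra.mul_antipode_lTensor_comul_apply (R := k) b]
      generalize comul (R := k) b = s
      induction s using TensorProduct.induction_on with
      | zero => simp
      | tmul p q => simp [K, Algebra.TensorProduct.tmul_mul_tmul]
      | add p q hp hq => simp only [TensorProduct.tmul_add, map_add, hp, hq]
  have hTy : T (ρ y) = y ⊗ₜ[k] (1 : A) := by
    have e : (GLin.coactAlgHom k A R).toLinearMap.rTensor A (ρ y) =
        (TensorProduct.assoc k R A A).symm (comul.lTensor R (ρ y)) :=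
      (LinearEquiv.eq_symm_apply _).mpr (LinearMap.congr_fun HopfRep.Comod.coassoc y)
    have e2 : counit.lTensor R (ρ y) = y ⊗ₜ (1 : k) := LinearMap.congr_fun HopfRep.Comod.counit_comp y
    rw [hTK, e, hK, e2, TensorProduct.rid_tmul, one_smul]
  rw [← hTy]
  obtain ⟨t, ht⟩ := (ext_eq_range k A I _).1 (hI y hy)
  rw [← ht]
  clear ht hTy
  induction t using TensorProduct.induction_on with
  | zero => simp
  | add a b ha hb => rw [map_add, map_add]; exact add_mem ha hb
  | tmul z a =>
    rw [LinearMap.rTensor_tmul]
    simp only [T, TensorProduct.lift.tmul, LinearMap.compl₁₂_apply, LinearMap.mul_apply']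
    exact Ideal.mul_mem_right _ _ (Ideal.subset_span ⟨z, z.2, rfl⟩)

theorem stable_span {ι : Type*} (f : ι → R) (hf : ∀ i, f i ∈ HopfRep.fixedPts k A R) :
    Stable k A (Ideal.span (Set.range f)) := by
  intro y hy
  induction hy using Submodule.span_induction with
  | mem y hy =>
    obtain ⟨i, rfl⟩ := hy
    rw [GLin.coactAlgHom_apply, show HopfRep.Comod.coact (k := k) (A := A) (f i) = f i ⊗ₜ[k] (1 : A) from hf i]
    exact Ideal.mem_map_of_mem _ (Ideal.subset_span (Set.mem_range_self i))
  | zero => simp
  | add a b _ _ ha hb => rw [map_add]; exact add_mem ha hb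
  | smul s a _ ha => rw [smul_eq_mul, map_mul]; exact Ideal.mul_mem_left _ _ ha

/-- The Reynolds operator preserves `(J : I)` for stable `I`, `J`. -/
theorem reynolds_colon (r : Comod.Integral k A) {I J : Ideal R} (hI : Stable k A I) (hJ : Stable k A J)
    {c : R} (hc : ∀ y ∈ I, c * y ∈ J) {y : R} (hy : y ∈ I) : Comod.reynolds R r c * y ∈ J := by
  show Comod.cR r.toFun (ρ c) * y ∈ J
  rw [← cR_mul_left]
  refine cR_mem _ ?_
  have hle : ∀ t ∈ Ideal.span (ρ '' (I : Set R)), ρ c * t ∈ ext k A J := fun t ht => by
    induction ht using Submodule.span_induction with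
    | mem t ht => obtain ⟨z, hz, rfl⟩ := ht; rw [← map_mul]; exact hJ _ (hc z hz)
    | zero => simp
    | add a b _ _ ha hb => rw [mul_add]; exact add_mem ha hb
    | smul s a _ ha => rw [smul_eq_mul, mul_left_comm]; exact Ideal.mul_mem_left _ _ ha
  exact hle _ (tmul_one_mem hI hy)

section Orbit

variable (x : R →ₐ[k] k)

/-- the orbit map is equivariant -/
theorem comul_orbitHom (f : R) :
    comul (R := k) (GLin.orbitHom k A x f) = (GLin.orbitHom k A x).toLinearMap.rTensor A (ρ f) := by
  let L : R ⊗[k] A →ₗ[k] A := (TensorProduct.lid k A).toLinearMap ∘ₗ x.toLinearMap.rTensor A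
  have hL : ∀ t, (Algebra.TensorProduct.lid k A).toAlgHom (Algebra.TensorProduct.map x (AlgHom.id k A) t) = L t :=
    fun t => by
      induction t using TensorProduct.induction_on with
      | zero => simp
      | tmul a b => simp [L]
      | add a b ha hb => simp only [map_add, ha, hb]
  have horb : ∀ g, GLin.orbitHom k A x g = L (ρ g) := fun g => hL _
  have h1 : ∀ t, (GLin.orbitHom k A x).toLinearMap.rTensor A t =
      L.rTensor A ((GLin.coactAlgHom k A R).toLinearMap.rTensor A t) := fun t => by
    induction t using TensorProduct.induction_on with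
    | zero => simp
    | tmul a b => simp [horb]
    | add a b ha hb => simp only [map_add, ha, hb]
  have h2 : ∀ t : R ⊗[k] A, L.rTensor A ((TensorProduct.assoc k R A A).symm (comul.lTensor R t)) =
      comul (R := k) (L t) := fun t => by
    induction t using TensorProduct.induction_on with
    | zero => simp
    | add a b ha hb => simp only [map_add, ha, hb]
    | tmul a b =>
      simp only [LinearMap.lTensor_tmul, L, LinearMap.comp_apply, LinearMap.rTensor_tmul,
        LinearEquiv.coe_coe, TensorProduct.lid_tmul, map_smul]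
      generalize comul (R := k) b = s
      induction s using TensorProduct.induction_on with
      | zero => simp
      | tmul p q => simp [TensorProduct.smul_tmul']
      | add p q hp hq => simp only [TensorProduct.tmul_add, map_add, hp, hq, smul_add]
  have e : (GLin.coactAlgHom k A R).toLinearMap.rTensor A (ρ f) =
      (TensorProduct.assoc k R A A).symm (comul.lTensor R (ρ f)) :=
    (LinearEquiv.eq_symm_apply _).mpr (LinearMap.congr_fun HopfRep.Comod.coassoc f)
  rw [h1, e, h2, horb]

theorem stable_ker (hx : Function.Surjective (GLin.orbitHom k A x)) :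
    Stable k A (RingHom.ker (GLin.orbitHom k A x)) := fun y hy => by
  refine mem_ext_of_ker k A _ (GLin.orbitHom k A x).toLinearMap hx rfl _ ?_
  rw [← comul_orbitHom, RingHom.mem_ker.1 hy, map_zero]

variable (k A) in
theorem stable_pow {I : Ideal R} (hI : Stable k A I) (n : ℕ) : Stable k A (I ^ n) := fun y hy => by
  have h : I.map ρ ≤ ext k A I := Ideal.map_le_iff_le_comap.2 hI
  have := Ideal.pow_right_mono h n
  rw [← Ideal.map_pow, ← Ideal.map_pow] at this
  exact this (Ideal.mem_map_of_mem _ hy)

end Orbit

section Quot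

variable (k A) in
/-- the quotient coaction -/
def quotCoact {J : Ideal R} (hJ : Stable k A J) : R ⧸ J →ₐ[k] (R ⧸ J) ⊗[k] A :=
  Ideal.Quotient.liftₐ J ((Algebra.TensorProduct.map (Ideal.Quotient.mkₐ k J) (AlgHom.id k A)).comp ρ)
    fun y hy => by
      have hle : ext k A J ≤ RingHom.ker (Algebra.TensorProduct.map (Ideal.Quotient.mkₐ k J) (AlgHom.id k A)) := by
        rw [Ideal.map_le_iff_le_comap]
        intro z hz
        simp [Ideal.Quotient.eq_zero_iff_mem.2 hz]
      exact hle (hJ y hy)

theorem quotCoact_mk {J : Ideal R} (hJ : Stable k A J) (y : R) :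
    quotCoact k A hJ (Ideal.Quotient.mk J y) = (Ideal.Quotient.mkₐ k J).toLinearMap.rTensor A (ρ y) := by
  show Algebra.TensorProduct.map (Ideal.Quotient.mkₐ k J) (AlgHom.id k A) (ρ y) = _
  generalize ρ y = t
  induction t using TensorProduct.induction_on with
  | zero => simp
  | tmul a b => simp
  | add a b ha hb => simp only [map_add, ha, hb]

variable (k A) in
/-- the quotient comodule -/
@[instance_reducible]
def quotComod {J : Ideal R} (hJ : Stable k A J) : HopfRep.Comod k A (R ⧸ J) where
  coact := (quotCoact k A hJ).toLinearMap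
  coassoc := by
    refine LinearMap.ext fun z => ?_
    obtain ⟨y, rfl⟩ := Ideal.Quotient.mk_surjective z
    set m : R →ₗ[k] R ⧸ J := (Ideal.Quotient.mkₐ k J).toLinearMap
    have h1 : ∀ t : R ⊗[k] A, (quotCoact k A hJ).toLinearMap.rTensor A (m.rTensor A t) =
        (m.rTensor A).rTensor A ((GLin.coactAlgHom k A R).toLinearMap.rTensor A t) := fun t => by
      induction t using TensorProduct.induction_on with
      | zero => simp
      | tmul a b => simp [m, quotCoact_mk]
      | add a b ha hb => simp only [map_add, ha, hb]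
    have h2 : ∀ s : (R ⊗[k] A) ⊗[k] A, TensorProduct.assoc k (R ⧸ J) A A ((m.rTensor A).rTensor A s) =
        m.rTensor (A ⊗[k] A) (TensorProduct.assoc k R A A s) := fun s => by
      induction s using TensorProduct.induction_on with
      | zero => simp
      | add a b ha hb => simp only [map_add, ha, hb]
      | tmul t c =>
        induction t using TensorProduct.induction_on with
        | zero => simp
        | tmul a b => simp
        | add a b ha hb => simp only [map_add, TensorProduct.add_tmul, ha, hb]
    have h3 : ∀ t : R ⊗[k] A, m.rTensor (A ⊗[k] A) (comul.lTensor R t) =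
        comul.lTensor (R ⧸ J) (m.rTensor A t) := fun t => by
      induction t using TensorProduct.induction_on with
      | zero => simp
      | tmul a b => simp
      | add a b ha hb => simp only [map_add, ha, hb]
    simp only [LinearMap.comp_apply, AlgHom.toLinearMap_apply, LinearEquiv.coe_coe, quotCoact_mk]
    rw [h1, h2, show TensorProduct.assoc k R A A ((GLin.coactAlgHom k A R).toLinearMap.rTensor A (ρ y)) =
      comul.lTensor R (ρ y) from LinearMap.congr_fun HopfRep.Comod.coassoc y, h3]
  counit_comp := by
    refine LinearMap.ext fun z => ?_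
    obtain ⟨y, rfl⟩ := Ideal.Quotient.mk_surjective z
    set m : R →ₗ[k] R ⧸ J := (Ideal.Quotient.mkₐ k J).toLinearMap
    have h3 : ∀ t : R ⊗[k] A, counit.lTensor (R ⧸ J) (m.rTensor A t) =
        m.rTensor k (counit.lTensor R t) := fun t => by
      induction t using TensorProduct.induction_on with
      | zero => simp
      | tmul a b => simp
      | add a b ha hb => simp only [map_add, ha, hb]
    simp only [LinearMap.comp_apply, AlgHom.toLinearMap_apply, quotCoact_mk]
    rw [h3, show counit.lTensor R (ρ y) = y ⊗ₜ (1 : k) from LinearMap.congr_fun HopfRep.Comod.counit_comp y]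
    rfl

end Quot

end Groth.Agent.OrbitCot
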