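import Groth.Agent.OrbitCot.Basic
import Mathlib.RingTheory.Finiteness.Nakayama
import Mathlib.RingTheory.Ideal.Quotient.Operations
import Mathlib.LinearAlgebra.Basis.VectorSpace

/-!
`I/I²` of a free orbit is a Hopf module over the group, so it has a basis of invariant classes; these lift
to invariant elements.
-/
set_option autoImplicit false
universe u
open TensorProduct Coalgebra
noncomputable section

namespace Groth.Agent.OrbitCot

variable {k : Type u} [Field k] {A : Type u} [CommRing A] [HopfAlgebra k A]
variable {R : Type u} [CommRing R] [Algebra k R] [HopfRep.Comod k A R] [GLin.IsCoactAlg k A R]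
variable (x : R →ₐ[k] k) (hx : Function.Surjective (GLin.orbitHom k A x))

variable (k A) in
/-- the ideal of the orbit -/
abbrev orb : Ideal R := RingHom.ker (GLin.orbitHom k A x)

/-- `A ≅ R/I` -/
def orbEquiv : A ≃ₐ[k] R ⧸ orb k A x :=
  (Ideal.quotientKerAlgEquivOfSurjective hx).symm

theorem orbEquiv_apply (f : R) : orbEquiv x hx (GLin.orbitHom k A x f) = Ideal.Quotient.mk _ f := by
  rw [orbEquiv, AlgEquiv.symm_apply_eq]
  rfl

/-- `I/I²` -/
def Cot (_hx : Function.Surjective (GLin.orbitHom k A x)) : Type u := (orb k A x).Cotangent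

instance : AddCommGroup (Cot x hx) := inferInstanceAs (AddCommGroup (orb k A x).Cotangent)

instance : Module k (Cot x hx) := inferInstanceAs (Module k (orb k A x).Cotangent)

instance instModA : Module A (Cot x hx) :=
  Module.compHom (orb k A x).Cotangent (orbEquiv x hx : A →+* R ⧸ orb k A x)

theorem smul_def (a : A) (m : Cot x hx) :
    a • m = ((orbEquiv x hx a) • (show (orb k A x).Cotangent from m) : (orb k A x).Cotangent) := rfl

theorem cot_smul_smul (c : k) (z : R ⧸ orb k A x) (m : (orb k A x).Cotangent) :
    (c • z) • m = c • (z • m) := by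
  obtain ⟨w, rfl⟩ := Ideal.Quotient.mk_surjective z
  obtain ⟨y, rfl⟩ := (orb k A x).toCotangent_surjective m
  show (orb k A x).toCotangent ((c • w) • y) = (orb k A x).toCotangent (c • (w • y))
  congr 1
  exact smul_assoc c w y

instance : IsScalarTower k A (Cot x hx) := ⟨fun c a m => by
  show orbEquiv x hx (c • a) • (show (orb k A x).Cotangent from m) =
    c • (orbEquiv x hx a • (show (orb k A x).Cotangent from m))
  rw [map_smul, cot_smul_smul]⟩

/-- the class of an element of `I` -/
def cls (y : orb k A x) : Cot x hx := (orb k A x).toCotangent y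

/-- `I/I² → R/I²` -/
def emb : Cot x hx →ₗ[k] R ⧸ (orb k A x) ^ 2 where
  toFun m := (orb k A x).cotangentToQuotientSquare m
  map_add' a b := map_add ((orb k A x).cotangentToQuotientSquare) a b
  map_smul' c a := LinearMap.map_smul_of_tower ((orb k A x).cotangentToQuotientSquare) c
    (show (orb k A x).Cotangent from a)

theorem emb_cls (y : orb k A x) : emb x hx (cls x hx y) = Ideal.Quotient.mk _ (y : R) := rfl

theorem cls_surjective : Function.Surjective (cls x hx) := (orb k A x).toCotangent_surjective

theorem emb_injective : Function.Injective (emb x hx) := by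
  refine (injective_iff_map_eq_zero _).2 fun m hm => ?_
  obtain ⟨y, rfl⟩ := cls_surjective x hx m
  rw [emb_cls, Ideal.Quotient.eq_zero_iff_mem] at hm
  exact ((orb k A x).toCotangent_eq_zero y).2 hm

theorem emb_smul (f : R) (m : Cot x hx) :
    emb x hx (GLin.orbitHom k A x f • m) = Ideal.Quotient.mk _ f * emb x hx m := by
  obtain ⟨y, rfl⟩ := cls_surjective x hx m
  rw [smul_def, orbEquiv_apply, emb_cls, ← map_mul]
  rfl

/-- the coaction of `R/I²` -/
abbrev sqCoact : R ⧸ (orb k A x) ^ 2 →ₐ[k] (R ⧸ (orb k A x) ^ 2) ⊗[k] A :=
  quotCoact k A (stable_pow k A (stable_ker x hx) 2)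

theorem rTensor_emb_injective : Function.Injective ((emb x hx).rTensor A) :=
  Module.Flat.rTensor_preserves_injective_linearMap _ (emb_injective x hx)

theorem sqCoact_mem (m : Cot x hx) :
    sqCoact x hx (emb x hx m) ∈ LinearMap.range ((emb x hx).rTensor A) := by
  obtain ⟨y, rfl⟩ := cls_surjective x hx m
  rw [emb_cls, quotCoact_mk]
  obtain ⟨t, ht⟩ := (ext_eq_range k A _ _).1 (stable_ker x hx y y.2)
  rw [← ht]
  clear ht
  induction t using TensorProduct.induction_on with
  | zero => simp
  | add a b ha hb => rw [map_add, map_add]; exact add_mem ha hb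
  | tmul z a => exact ⟨cls x hx ⟨z, z.2⟩ ⊗ₜ a, by simp [emb_cls]⟩

/-- the coaction of `I/I²` -/
def cotCoact : Cot x hx →ₗ[k] Cot x hx ⊗[k] A :=
  (LinearEquiv.ofInjective _ (rTensor_emb_injective x hx)).symm.toLinearMap ∘ₗ
    LinearMap.codRestrict _ ((sqCoact x hx).toLinearMap ∘ₗ emb x hx) (sqCoact_mem x hx)

theorem cotCoact_spec (m : Cot x hx) :
    (emb x hx).rTensor A (cotCoact x hx m) = sqCoact x hx (emb x hx m) := by
  have h := LinearEquiv.apply_symm_apply (LinearEquiv.ofInjective _ (rTensor_emb_injective x hx))
    (LinearMap.codRestrict _ ((sqCoact x hx).toLinearMap ∘ₗ emb x hx) (sqCoact_mem x hx) m)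
  exact congrArg Subtype.val h

instance instComod : HopfRep.Comod k A (Cot x hx) where
  coact := cotCoact x hx
  coassoc := by
    refine LinearMap.ext fun m => ?_
    have hinj : Function.Injective ((emb x hx).rTensor (A ⊗[k] A)) :=
      Module.Flat.rTensor_preserves_injective_linearMap _ (emb_injective x hx)
    refine hinj ?_
    set j := emb x hx
    have h1 : ∀ s : (Cot x hx ⊗[k] A) ⊗[k] A, j.rTensor (A ⊗[k] A) (TensorProduct.assoc k _ A A s) =
        TensorProduct.assoc k _ A A ((j.rTensor A).rTensor A s) := fun s => by
      induction s using TensorProduct.induction_on with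
      | zero => simp
      | add a b ha hb => simp only [map_add, ha, hb]
      | tmul t c =>
        induction t using TensorProduct.induction_on with
        | zero => simp
        | tmul a b => simp
        | add a b ha hb => simp only [map_add, TensorProduct.add_tmul, ha, hb]
    have h2 : ∀ t : Cot x hx ⊗[k] A, (j.rTensor A).rTensor A ((cotCoact x hx).rTensor A t) =
        (sqCoact x hx).toLinearMap.rTensor A (j.rTensor A t) := fun t => by
      induction t using TensorProduct.induction_on with
      | zero => simp
      | tmul a b => simp [j, cotCoact_spec]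
      | add a b ha hb => simp only [map_add, ha, hb]
    have h3 : ∀ t : Cot x hx ⊗[k] A, j.rTensor (A ⊗[k] A) (comul.lTensor _ t) =
        comul.lTensor _ (j.rTensor A t) := fun t => by
      induction t using TensorProduct.induction_on with
      | zero => simp
      | tmul a b => simp
      | add a b ha hb => simp only [map_add, ha, hb]
    simp only [LinearMap.comp_apply, LinearEquiv.coe_coe]
    rw [h1, h2, h3, cotCoact_spec]
    exact LinearMap.congr_fun (quotComod k A (stable_pow k A (stable_ker x hx) 2)).coassoc (j m)
  counit_comp := by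
    refine LinearMap.ext fun m => ?_
    have hinj : Function.Injective ((emb x hx).rTensor k) :=
      Module.Flat.rTensor_preserves_injective_linearMap _ (emb_injective x hx)
    refine hinj ?_
    have h3 : ∀ t : Cot x hx ⊗[k] A, (emb x hx).rTensor k (counit.lTensor _ t) =
        counit.lTensor _ ((emb x hx).rTensor A t) := fun t => by
      induction t using TensorProduct.induction_on with
      | zero => simp
      | tmul a b => simp
      | add a b ha hb => simp only [map_add, ha, hb]
    simp only [LinearMap.comp_apply]
    rw [h3, cotCoact_spec]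
    exact LinearMap.congr_fun (quotComod k A (stable_pow k A (stable_ker x hx) 2)).counit_comp (emb x hx m)

instance instHopfMod : TameAct.IsHopfMod k A A (Cot x hx) where
  coact_smul a m := by
    obtain ⟨f, rfl⟩ := hx a
    refine rTensor_emb_injective x hx ?_
    show (emb x hx).rTensor A (cotCoact x hx _) = _
    rw [cotCoact_spec, emb_smul, map_mul, ← cotCoact_spec x hx m, quotCoact_mk,
      show HopfRep.Comod.coact (k := k) (A := A) (GLin.orbitHom k A x f) = _ from comul_orbitHom x f]
    show _ = (emb x hx).rTensor A (TameAct.hmSMul k A A (Cot x hx)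
      ((GLin.orbitHom k A x).toLinearMap.rTensor A (GLin.coactAlgHom k A R f)) (cotCoact x hx m))
    generalize GLin.coactAlgHom k A R f = s
    generalize cotCoact x hx m = t
    induction s using TensorProduct.induction_on with
    | zero => simp
    | add a b ha hb => simp only [map_add, LinearMap.add_apply, add_mul, ha, hb]
    | tmul p q =>
      induction t using TensorProduct.induction_on with
      | zero => simp
      | add a b ha hb => simp only [map_add, mul_add, ha, hb]
      | tmul z w => simp [emb_smul, Algebra.TensorProduct.tmul_mul_tmul]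

theorem emb_mem_fixed (m : Cot x hx) (hm : m ∈ HopfRep.fixedPts k A (Cot x hx)) :
    sqCoact x hx (emb x hx m) = emb x hx m ⊗ₜ[k] (1 : A) := by
  rw [← cotCoact_spec, show cotCoact x hx m = m ⊗ₜ[k] (1 : A) from hm, LinearMap.rTensor_tmul]

include hx in
/-- An invariant class lifts to an invariant element. -/
theorem exists_invariant_lift (r : Comod.Integral k A) (m : Cot x hx)
    (hm : m ∈ HopfRep.fixedPts k A (Cot x hx)) :
    ∃ (f : R) (hf : f ∈ orb k A x), f ∈ HopfRep.fixedPts k A R ∧ cls x hx ⟨f, hf⟩ = m := by
  obtain ⟨y, rfl⟩ := cls_surjective x hx m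
  refine ⟨Comod.reynolds R r y, reynolds_mem_of_stable r (stable_ker x hx) y.2, Comod.reynolds_mem r _,
    emb_injective x hx ?_⟩
  rw [emb_cls, emb_cls]
  show (Ideal.Quotient.mkₐ k _).toLinearMap (Comod.cR r.toFun (GLin.coactAlgHom k A R y)) = _
  rw [← Comod.cR_rTensor, ← quotCoact_mk (stable_pow k A (stable_ker x hx) 2)]
  have := emb_mem_fixed x hx _ hm
  rw [emb_cls] at this
  rw [this, Comod.cR_tmul, r.one, one_smul]

include hx in
/-- Finitely many invariant elements of `I` whose classes form a basis of `I/I²`. -/
theorem exists_invariant_basis [IsNoetherianRing R] [Nontrivial A] (r : Comod.Integral k A) :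
    ∃ (n : ℕ) (f : Fin n → R) (hf : ∀ i, f i ∈ orb k A x), (∀ i, f i ∈ HopfRep.fixedPts k A R) ∧
      LinearIndependent (R ⧸ orb k A x) (fun i => (orb k A x).toCotangent ⟨f i, hf i⟩) ∧
      Submodule.span (R ⧸ orb k A x) (Set.range fun i => (orb k A x).toCotangent ⟨f i, hf i⟩) = ⊤ := by
  classical
  set P := HopfRep.fixedPts k A (Cot x hx)
  let b := Module.Basis.ofVectorSpace k P
  have hli : LinearIndependent k fun i => (b i : Cot x hx) :=
    b.linearIndependent.map' P.subtype P.ker_subtype
  have hspan : Submodule.span k (Set.range fun i => (b i : Cot x hx)) = P := by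
    rw [show (fun i => (b i : Cot x hx)) = P.subtype ∘ b from rfl, Set.range_comp, ← Submodule.map_span,
      b.span_eq, Submodule.map_top, Submodule.range_subtype]
  obtain ⟨hA, hAspan⟩ := Comod.basis_of_fixedPts_basis (A := A) _ hli hspan
  have hfin : Module.Finite A (Cot x hx) := by
    have h1 : Module.Finite R (orb k A x).Cotangent := by
      have : Module.Finite R (orb k A x) := Module.Finite.iff_fg.2 (IsNoetherian.noetherian _)
      exact Module.Finite.of_surjective (orb k A x).toCotangent (orb k A x).toCotangent_surjective
    have h2 : Module.Finite (R ⧸ orb k A x) (orb k A x).Cotangent := Module.Finite.of_restrictScalars_finite R _ _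
    obtain ⟨S, hS⟩ := h2.fg_top
    refine ⟨⟨S.image (show (orb k A x).Cotangent → Cot x hx from id), eq_top_iff.2 fun m _ => ?_⟩⟩
    have hm : (show (orb k A x).Cotangent from m) ∈ Submodule.span (R ⧸ orb k A x) (S : Set (orb k A x).Cotangent) :=
      hS ▸ Submodule.mem_top
    suffices ∀ q ∈ Submodule.span (R ⧸ orb k A x) (S : Set (orb k A x).Cotangent),
        (show Cot x hx from q) ∈ Submodule.span A ((S.image (show (orb k A x).Cotangent → Cot x hx from id) : Finset (Cot x hx)) : Set (Cot x hx)) from this m hm
    intro q hq
    induction hq using Submodule.span_induction with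
    | mem q hq => exact Submodule.subset_span (Finset.mem_coe.2 (Finset.mem_image.2 ⟨q, hq, rfl⟩))
    | zero => exact zero_mem _
    | add a b _ _ ha hb => exact add_mem ha hb
    | smul c a _ ha =>
      have := Submodule.smul_mem _ ((orbEquiv x hx).symm c) ha
      rwa [smul_def, AlgEquiv.apply_symm_apply] at this
  have : Finite (Module.Basis.ofVectorSpaceIndex k P) := by
    let B := Module.Basis.mk hA hAspan.ge
    exact Module.Finite.finite_basis B
  have := Fintype.ofFinite (Module.Basis.ofVectorSpaceIndex k P)
  let e := (Fintype.equivFin (Module.Basis.ofVectorSpaceIndex k P)).symm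
  choose f hf hfinv hcls using fun i => exists_invariant_lift x hx r (b (e i) : Cot x hx) (b (e i)).2
  refine ⟨_, f, hf, hfinv, ?_, ?_⟩
  · have hA' := hA.comp e e.injective
    rw [Fintype.linearIndependent_iff] at hA' ⊢
    intro g hg i
    have h0 := hA' (fun j => (orbEquiv x hx).symm (g j)) ?_ i
    · exact (map_eq_zero_iff _ (orbEquiv x hx).symm.injective).1 h0
    · refine Eq.trans ?_ hg
      refine Finset.sum_congr rfl fun j _ => ?_
      rw [Function.comp_apply, smul_def, AlgEquiv.apply_symm_apply, ← hcls j]
      rfl
  · rw [eq_top_iff]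
    intro m _
    suffices ∀ q ∈ Submodule.span A (Set.range fun i => (b i : Cot x hx)),
        (show (orb k A x).Cotangent from q) ∈
          Submodule.span (R ⧸ orb k A x) (Set.range fun i => (orb k A x).toCotangent ⟨f i, hf i⟩) from
      this m (hAspan ▸ Submodule.mem_top)
    intro q hq
    induction hq using Submodule.span_induction with
    | mem q hq =>
      obtain ⟨i, rfl⟩ := hq
      refine Submodule.subset_span ⟨e.symm i, ?_⟩
      have h := hcls (e.symm i)
      rw [e.apply_symm_apply] at h
      exact h
    | zero => exact zero_mem _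
    | add a b _ _ ha hb => exact add_mem ha hb
    | smul c a _ ha =>
      rw [smul_def]
      exact Submodule.smul_mem _ _ ha

end Groth.Agent.OrbitCot
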